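import Cfsg.Agent.Lib.PermComp.OutP.CentIso
import Cfsg.Agent.Lib.PermComp.OutP.J1C.DataP0

set_option autoImplicit false
set_option maxRecDepth 100000
set_option maxHeartbeats 0

namespace Cfsg.Agent.Lib.PermComp.OutP.J1C

open Cfsg Cfsg.Agent.Lib.PermComp.OutP
open Cfsg.Agent.Lib.PermComp.Core (force)
open Cfsg.Agent.Lib.PermComp.Kron (rangeAll rangeAll_spec)

def n : Nat := 266
noncomputable def TT_T : Nat := (Nat.lor (Nat.lor (Nat.lor TT_p0 (Nat.shiftLeft TT_p1 15993)) (Nat.shiftLeft (Nat.lor TT_p2 (Nat.shiftLeft TT_p3 15993)) 31986)) (Nat.shiftLeft (Nat.lor (Nat.lor TT_p4 (Nat.shiftLeft TT_p5 15993)) (Nat.shiftLeft (Nat.lor TT_p6 (Nat.shiftLeft TT_p7 15993)) 31986)) 63972))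
noncomputable def TT_M1 : Nat := Nat.sub (Nat.shiftLeft 1 9216) 1
noncomputable def TT_M2 : Nat := Nat.sub (Nat.shiftLeft 1 576) 1
noncomputable def TT (p : Nat) : Nat :=
  force (Nat.shiftRight p 10) fun b1 => force (Nat.land (Nat.shiftRight p 6) 15) fun b2 =>
    Nat.land (Nat.shiftRight (Nat.land (Nat.shiftRight (Nat.land (Nat.shiftRight TT_T (Nat.mul b1 9216)) TT_M1) (Nat.mul b2 576)) TT_M2) (Nat.mul (Nat.land p 63) 9)) 511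

noncomputable def F (g p : Nat) : Nat := TT (Nat.add (Nat.mul g 266) p)

def progL : List (List Nat) := [
  [],
  [],
  [0, 0, 0, 0, 0, 1, 0, 1, 0, 0, 0, 1, 1, 1, 0, 1, 1, 0, 1, 0, 1, 1, 0, 1, 1, 0, 1, 1, 0, 0, 1, 1, 1, 0, 0, 0, 0, 1, 1, 0],
  [2, 2, 2, 2, 2],
  [1, 1, 0, 1, 1, 1, 0, 0, 1, 1, 1, 1, 0, 0, 0, 0],
  [4, 4, 4, 4, 4, 4, 4, 4, 4, 4, 4, 4, 4, 4, 4, 4, 4, 4],
  [3, 5, 3, 4],
  [4, 6, 6, 6, 6, 6, 6, 6],
  [1, 0, 0, 0, 1, 0, 1, 1, 1, 1, 0, 1, 1, 1, 0, 1],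
  [8, 8],
  [3, 9, 3, 8],
  [8, 10, 10, 10, 10, 10, 10, 10],
  [1, 0, 1, 1, 0, 1, 0, 0, 0, 0, 0, 1, 0, 0, 1, 0],
  [12, 12, 12, 12, 12, 12],
  [3, 13, 3, 12],
  [12, 14, 14, 14, 14, 14, 14, 14, 14, 14],
  [7, 11, 7, 15],
  [1, 0, 1, 1, 1, 0, 0, 1, 1, 1, 0, 0, 0, 0, 1, 0],
  [17, 17, 17, 17, 17],
  [3, 18, 3, 17],
  [17, 19],
  [1, 1, 1, 1, 0, 1, 0, 1, 0, 1, 1, 1, 1, 0, 0, 1],
  [21],
  [3, 22, 3, 21],
  [21, 23, 23, 23, 23, 23, 23, 23, 23, 23],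
  [0, 0, 0, 1, 0, 1, 0, 0, 1, 0, 0, 0, 1, 0, 1, 1],
  [25, 25, 25, 25, 25],
  [3, 26, 3, 25],
  [27, 27, 27, 27, 27],
  [20, 24, 28, 11, 15, 7],
  [0, 1, 0, 0, 0, 0, 0, 1, 1, 0, 1, 0, 1, 1, 1, 1],
  [30, 30, 30],
  [0, 0, 0, 1, 1, 0, 1, 1, 1, 1, 1, 0, 1, 1, 1, 0],
  [32, 32, 32, 32, 32],
  [1, 0, 0, 1, 0, 1, 1, 1, 1, 0, 0, 1, 0, 1, 0, 0],
  [34, 34, 34, 34, 34],
  [1, 0, 1, 0, 1, 1, 1, 0, 0, 1, 0, 1, 0, 0, 1, 1],
  [36, 36, 36],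
  [0, 0, 0, 1, 0, 0, 1, 0, 1, 1, 0, 1, 1, 1, 1, 0],
  [38, 38, 38, 38, 38],
  [0, 1, 1, 0, 0, 0, 1, 1, 0, 0, 0, 1, 0, 1, 0, 1],
  [40, 40, 40, 40, 40],
  [31],
  [33],
  [35],
  [37],
  [39],
  [41]]
def prog (g : Nat) : List Nat := progL.getD g []

noncomputable def FPL_T : Nat := (Nat.lor FPL_p0 (Nat.shiftLeft FPL_p1 15988))
noncomputable def FPL_M1 : Nat := Nat.sub (Nat.shiftLeft 1 57344) 1
noncomputable def FPL_M2 : Nat := Nat.sub (Nat.shiftLeft 1 448) 1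
noncomputable def FPL (p : Nat) : Nat :=
  force (Nat.shiftRight p 12) fun b1 => force (Nat.land (Nat.shiftRight p 5) 127) fun b2 =>
    Nat.land (Nat.shiftRight (Nat.land (Nat.shiftRight (Nat.land (Nat.shiftRight FPL_T (Nat.mul b1 57344)) FPL_M1) (Nat.mul b2 448)) FPL_M2) (Nat.mul (Nat.land p 31) 14)) 16383

noncomputable def DD : Frs := ⟨3, 258, FPL, 6, 42, 6, 1463, [96, 108, 162]⟩

noncomputable def OM_T : Nat := OM_p0
noncomputable def OM_M1 : Nat := Nat.sub (Nat.shiftLeft 1 36864) 1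
noncomputable def OM_M2 : Nat := Nat.sub (Nat.shiftLeft 1 288) 1
noncomputable def OM (p : Nat) : Nat :=
  force (Nat.shiftRight p 12) fun b1 => force (Nat.land (Nat.shiftRight p 5) 127) fun b2 =>
    Nat.land (Nat.shiftRight (Nat.land (Nat.shiftRight (Nat.land (Nat.shiftRight OM_T (Nat.mul b1 36864)) OM_M1) (Nat.mul b2 288)) OM_M2) (Nat.mul (Nat.land p 31) 9)) 511

noncomputable def OI_T : Nat := OI_p0
noncomputable def OI_M1 : Nat := Nat.sub (Nat.shiftLeft 1 20480) 1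
noncomputable def OI_M2 : Nat := Nat.sub (Nat.shiftLeft 1 160) 1
noncomputable def OI (p : Nat) : Nat :=
  force (Nat.shiftRight p 12) fun b1 => force (Nat.land (Nat.shiftRight p 5) 127) fun b2 =>
    Nat.land (Nat.shiftRight (Nat.land (Nat.shiftRight (Nat.land (Nat.shiftRight OI_T (Nat.mul b1 20480)) OI_M1) (Nat.mul b2 160)) OI_M2) (Nat.mul (Nat.land p 31) 5)) 31

def cR_n : Nat := nat_lit 20
def cR_w : Nat := nat_lit 5
def cR_mask : Nat := nat_lit 31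
def cR_L : Nat := nat_lit 100
def cR_maskL : Nat := nat_lit 0xfffffffffffffffffffffffff
def cR_idc : Nat := nat_lit 0x9ca307b9ac5a928398a418820
def cR_T : List Nat := [nat_lit 0x915c299e1163c0d5a54831061, nat_lit 0x8b47343d520c1c03316939482]
def cR_prog : List (Nat × Nat × Nat) := [(nat_lit 1, nat_lit 1, nat_lit 0), (nat_lit 0, nat_lit 0, nat_lit 0), (nat_lit 0, nat_lit 3, nat_lit 3), (nat_lit 0, nat_lit 0, nat_lit 3), (nat_lit 0, nat_lit 0, nat_lit 5), (nat_lit 0, nat_lit 0, nat_lit 6), (nat_lit 0, nat_lit 0, nat_lit 6), (nat_lit 0, nat_lit 0, nat_lit 7), (nat_lit 0, nat_lit 0, nat_lit 9), (nat_lit 0, nat_lit 0, nat_lit 9), (nat_lit 0, nat_lit 0, nat_lit 11), (nat_lit 0, nat_lit 9, nat_lit 0), (nat_lit 0, nat_lit 12, nat_lit 12), (nat_lit 0, nat_lit 0, nat_lit 13), (nat_lit 0, nat_lit 0, nat_lit 15), (nat_lit 0, nat_lit 0, nat_lit 15), (nat_lit 0,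 nat_lit 0, nat_lit 17), (nat_lit 0, nat_lit 0, nat_lit 17), (nat_lit 0, nat_lit 0, nat_lit 18), (nat_lit 0, nat_lit 18, nat_lit 0), (nat_lit 0, nat_lit 8, nat_lit 0), (nat_lit 0, nat_lit 0, nat_lit 9), (nat_lit 0, nat_lit 0, nat_lit 2), (nat_lit 0, nat_lit 0, nat_lit 11), (nat_lit 0, nat_lit 0, nat_lit 12), (nat_lit 0, nat_lit 0, nat_lit 5), (nat_lit 0, nat_lit 0, nat_lit 6), (nat_lit 0, nat_lit 0, nat_lit 7)]
def cR_s0 : Nat := nat_lit 0x8b47343d520c1c03316939482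
def cR_s1 : Nat := nat_lit 0x315cb9b6306242713c6492140
def cR_s2 : Nat := nat_lit 0x29a111b16e6a54814a6479c20
noncomputable def cR_lev0 : Cfsg.Agent.Lib.PermComp.Core.Lev := Cfsg.Agent.Lib.PermComp.Core.mkLev cR_n cR_w cR_mask cR_L cR_maskL cR_idc (nat_lit 0) [cR_s2, cR_s1, cR_s0] [(nat_lit 2, cR_s0, nat_lit 0), (nat_lit 7, cR_s2, nat_lit 2), (nat_lit 8, cR_s1, nat_lit 2), (nat_lit 5, cR_s0, nat_lit 2), (nat_lit 6, cR_s0, nat_lit 7), (nat_lit 19, cR_s2, nat_lit 5), (nat_lit 3, cR_s1, nat_lit 5), (nat_lit 11, cR_s0, nat_lit 5), (nat_lit 18, cR_s2, nat_lit 6), (nat_lit 15, cR_s1, nat_lit 6), (nat_lit 12, cR_s0, nat_lit 6), (nat_lit 17, cR_s0, nat_lit 19), (nat_lit 13, cR_s2, nat_lit 11), (nat_lit 1, cR_s0, nat_lit 11), (nat_lit 14, cR_s2, nat_lit 12), (nat_lit 16, cR_s1, nat_lit 12), (nat_lit 10, cR_s0, nat_lit 13), (nat_lit 4, cR_s0, nat_lit 1), (nat_lit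 9, cR_s2, nat_lit 10)]
noncomputable def cR_lev1 : Cfsg.Agent.Lib.PermComp.Core.Lev := Cfsg.Agent.Lib.PermComp.Core.mkLev cR_n cR_w cR_mask cR_L cR_maskL cR_idc (nat_lit 1) [cR_s2, cR_s1] [(nat_lit 10, cR_s1, nat_lit 1), (nat_lit 9, cR_s2, nat_lit 10)]
noncomputable def cR_lev2 : Cfsg.Agent.Lib.PermComp.Core.Lev := Cfsg.Agent.Lib.PermComp.Core.mkLev cR_n cR_w cR_mask cR_L cR_maskL cR_idc (nat_lit 2) [cR_s2] [(nat_lit 7, cR_s2, nat_lit 2)]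
noncomputable def cR_levels : List Cfsg.Agent.Lib.PermComp.Core.Lev := [cR_lev0, cR_lev1, cR_lev2]

def cM_n : Nat := nat_lit 7
def cM_w : Nat := nat_lit 5
def cM_mask : Nat := nat_lit 31
def cM_L : Nat := nat_lit 35
def cM_maskL : Nat := nat_lit 0x7ffffffff
def cM_idc : Nat := nat_lit 0x18a418820
def cM_T : List Nat := [nat_lit 0x146611020, nat_lit 0x146221801]
def cM_prog : List (Nat × Nat × Nat) := [(nat_lit 1, nat_lit 1, nat_lit 0), (nat_lit 1, nat_lit 1, nat_lit 0), (nat_lit 0, nat_lit 3, nat_lit 2), (nat_lit 0, nat_lit 0, nat_lit 4), (nat_lit 0, nat_lit 4, nat_lit 5), (nat_lit 0, nat_lit 0, nat_lit 6), (nat_lit 0, nat_lit 0, nat_lit 6), (nat_lit 0, nat_lit 0, nat_lit 8), (nat_lit 0, nat_lit 0, nat_lit 8), (nat_lit 0, nat_lit 0, nat_lit 9), (nat_lit 0, nat_lit 0, nat_lit 11), (nat_lit 0, nat_lit 0, nat_lit 11), (nat_lit 0, nat_lit 0, nat_lit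 12), (nat_lit 0, nat_lit 11, nat_lit 12), (nat_lit 0, nat_lit 0, nat_lit 1), (nat_lit 0, nat_lit 11, nat_lit 16), (nat_lit 0, nat_lit 0, nat_lit 17), (nat_lit 1, nat_lit 2, nat_lit 0), (nat_lit 0, nat_lit 3, nat_lit 3), (nat_lit 0, nat_lit 0, nat_lit 2), (nat_lit 0, nat_lit 0, nat_lit 5), (nat_lit 0, nat_lit 0, nat_lit 6), (nat_lit 0, nat_lit 0, nat_lit 5), (nat_lit 0, nat_lit 0, nat_lit 6), (nat_lit 0, nat_lit 0, nat_lit 9), (nat_lit 0, nat_lit 0, nat_lit 8), (nat_lit 0, nat_lit 0, nat_lit 11), (nat_lit 0, nat_lit 12, nat_lit 10), (nat_lit 0, nat_lit 0, nat_lit 13), (nat_lit 0, nat_lit 0, nat_lit 12), (nat_lit 0, nat_lit 0, nat_lit 15), (nat_lit 0, nat_lit 0, nat_lit 16), (nat_lit 0, nat_lit 0, nat_lit 15), (nat_lit 0, nat_lit 0, nat_lit 18), (nat_lit 0, nat_lit 0, nat_lit 17), (nat_lit 0, nat_lit 0, nat_lit 18), (nat_lit 0, nat_lit 0, nat_lit 21),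 (nat_lit 0, nat_lit 19, nat_lit 0), (nat_lit 1, nat_lit 11, nat_lit 0), (nat_lit 0, nat_lit 1, nat_lit 1), (nat_lit 0, nat_lit 0, nat_lit 2), (nat_lit 0, nat_lit 0, nat_lit 14), (nat_lit 0, nat_lit 0, nat_lit 4), (nat_lit 0, nat_lit 0, nat_lit 16), (nat_lit 0, nat_lit 0, nat_lit 6), (nat_lit 0, nat_lit 0, nat_lit 7), (nat_lit 0, nat_lit 7, nat_lit 0)]
def cM_s0 : Nat := nat_lit 0x146611020
def cM_s1 : Nat := nat_lit 0x188328801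
def cM_s2 : Nat := nat_lit 0x10a330820
def cM_s3 : Nat := nat_lit 0x148618820
noncomputable def cM_lev0 : Cfsg.Agent.Lib.PermComp.Core.Lev := Cfsg.Agent.Lib.PermComp.Core.mkLev cM_n cM_w cM_mask cM_L cM_maskL cM_idc (nat_lit 2) [cM_s3, cM_s2, cM_s1, cM_s0] [(nat_lit 4, cM_s0, nat_lit 2), (nat_lit 6, cM_s3, nat_lit 4), (nat_lit 3, cM_s2, nat_lit 4), (nat_lit 5, cM_s3, nat_lit 6)]
noncomputable def cM_lev1 : Cfsg.Agent.Lib.PermComp.Core.Lev := Cfsg.Agent.Lib.PermComp.Core.mkLev cM_n cM_w cM_mask cM_L cM_maskL cM_idc (nat_lit 0) [cM_s3, cM_s2, cM_s1] [(nat_lit 1, cM_s1, nat_lit 0)]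
noncomputable def cM_lev2 : Cfsg.Agent.Lib.PermComp.Core.Lev := Cfsg.Agent.Lib.PermComp.Core.mkLev cM_n cM_w cM_mask cM_L cM_maskL cM_idc (nat_lit 3) [cM_s3, cM_s2] [(nat_lit 6, cM_s2, nat_lit 3), (nat_lit 5, cM_s3, nat_lit 6), (nat_lit 4, cM_s2, nat_lit 6)]
noncomputable def cM_lev3 : Cfsg.Agent.Lib.PermComp.Core.Lev := Cfsg.Agent.Lib.PermComp.Core.mkLev cM_n cM_w cM_mask cM_L cM_maskL cM_idc (nat_lit 4) [cM_s3] [(nat_lit 6, cM_s3, nat_lit 4), (nat_lit 5, cM_s3, nat_lit 6)]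
noncomputable def cM_levels : List Cfsg.Agent.Lib.PermComp.Core.Lev := [cM_lev0, cM_lev1, cM_lev2, cM_lev3]

def cD_n : Nat := nat_lit 27
def cD_w : Nat := nat_lit 5
def cD_mask : Nat := nat_lit 31
def cD_L : Nat := nat_lit 135
def cD_maskL : Nat := nat_lit 0x7fffffffffffffffffffffffffffffffff
def cD_idc : Nat := nat_lit 0x6b38bdab49ca307b9ac5a928398a418820
def cD_T : List Nat := [nat_lit 0x66fab62b4915c299e1163c0d5a54831061, nat_lit 0x66f6c6a958b47343d520c1c03316939482]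
def cD_prog : List (Nat × Nat × Nat) := [(nat_lit 1, nat_lit 1, nat_lit 0), (nat_lit 0, nat_lit 0, nat_lit 0), (nat_lit 0, nat_lit 3, nat_lit 3), (nat_lit 0, nat_lit 0, nat_lit 3), (nat_lit 0, nat_lit 0, nat_lit 5), (nat_lit 0, nat_lit 0, nat_lit 6), (nat_lit 0, nat_lit 0, nat_lit 6), (nat_lit 0, nat_lit 0, nat_lit 7), (nat_lit 0, nat_lit 0, nat_lit 9), (nat_lit 0, nat_lit 0, nat_lit 9), (nat_lit 0, nat_lit 0, nat_lit 11), (nat_lit 0, nat_lit 9, nat_lit 0), (nat_lit 0, nat_lit 12, nat_lit 12), (nat_lit 0, nat_lit 0, nat_lit 13), (nat_lit 0, nat_lit 0, nat_lit 15), (nat_lit 0, nat_lit 0, nat_lit 15), (nat_lit 0, nat_lit 0, nat_lit 17), (nat_lit 0, nat_lit 0, nat_lit 17), (nat_lit 0, nat_lit 0, nat_lit 18), (nat_lit 0, nat_lit 18, nat_lit 0), (nat_lit 0, nat_lit 8, nat_lit 0), (nat_lit 0, nat_lit 0, nat_lit 9), (nat_lit 0, nat_lit 0, nat_lit 2), (nat_lit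 0, nat_lit 0, nat_lit 11), (nat_lit 0, nat_lit 0, nat_lit 12), (nat_lit 0, nat_lit 0, nat_lit 5), (nat_lit 0, nat_lit 0, nat_lit 6), (nat_lit 0, nat_lit 0, nat_lit 7)]
def cD_s0 : Nat := nat_lit 0x66f6c6a958b47343d520c1c03316939482
def cD_s1 : Nat := nat_lit 0x6ad9be2b4315cb9b6306242713c6492140
def cD_s2 : Nat := nat_lit 0x5ed8d66b429a111b16e6a54814a6479c20
noncomputable def cD_lev0 : Cfsg.Agent.Lib.PermComp.Core.Lev := Cfsg.Agent.Lib.PermComp.Core.mkLev cD_n cD_w cD_mask cD_L cD_maskL cD_idc (nat_lit 0) [cD_s2, cD_s1, cD_s0] [(nat_lit 2, cD_s0, nat_lit 0), (nat_lit 7, cD_s2, nat_lit 2), (nat_lit 8, cD_s1, nat_lit 2), (nat_lit 5, cD_s0, nat_lit 2), (nat_lit 6, cD_s0, nat_lit 7), (nat_lit 19, cD_s2, nat_lit 5), (nat_lit 3, cD_s1, nat_lit 5), (nat_lit 11, cD_s0, nat_lit 5), (nat_lit 18, cD_s2, nat_lit 6), (nat_lit 15, cD_s1, nat_lit 6), (nat_lit 12,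 cD_s0, nat_lit 6), (nat_lit 17, cD_s0, nat_lit 19), (nat_lit 13, cD_s2, nat_lit 11), (nat_lit 1, cD_s0, nat_lit 11), (nat_lit 14, cD_s2, nat_lit 12), (nat_lit 16, cD_s1, nat_lit 12), (nat_lit 10, cD_s0, nat_lit 13), (nat_lit 4, cD_s0, nat_lit 1), (nat_lit 9, cD_s2, nat_lit 10)]
noncomputable def cD_lev1 : Cfsg.Agent.Lib.PermComp.Core.Lev := Cfsg.Agent.Lib.PermComp.Core.mkLev cD_n cD_w cD_mask cD_L cD_maskL cD_idc (nat_lit 1) [cD_s2, cD_s1] [(nat_lit 10, cD_s1, nat_lit 1), (nat_lit 9, cD_s2, nat_lit 10)]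
noncomputable def cD_lev2 : Cfsg.Agent.Lib.PermComp.Core.Lev := Cfsg.Agent.Lib.PermComp.Core.mkLev cD_n cD_w cD_mask cD_L cD_maskL cD_idc (nat_lit 2) [cD_s2] [(nat_lit 7, cD_s2, nat_lit 2)]
noncomputable def cD_levels : List Cfsg.Agent.Lib.PermComp.Core.Lev := [cD_lev0, cD_lev1, cD_lev2]


end Cfsg.Agent.Lib.PermComp.OutP.J1C
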